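import Groth.Agent.NFlat6.Converse

/-!
# Bridge between local flatness over `A ⧸ R` and regular sequences
-/

universe u

open TensorProduct RingTheory.Sequence Pointwise

namespace Groth.Agent.NFlat6

variable {A : Type u} [CommRing A] {R : Ideal A}

theorem flat_localized_of_flat {S N : Type u} [CommRing S] [AddCommGroup N] [Module S N]
    [Module.Flat S N] (p : Ideal S) [p.IsPrime] :
    Module.Flat (Localization.AtPrime p) (LocalizedModule p.primeCompl N) :=
  Module.Flat.of_linearEquiv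
    ((IsLocalizedModule.isBaseChange p.primeCompl (Localization.AtPrime p)
      (LocalizedModule.mkLinearMap p.primeCompl N)).equiv).symm

/-- If `N` is flat over `A ⧸ R` at `p`, a regular sequence on `A ⧸ R` is regular on `N` at `p`. -/
theorem isWeaklyRegular_localized_of_flat (rs : List A) (hreg : IsWeaklyRegular (A ⧸ R) rs)
    (N : Type u) [AddCommGroup N] [Module A N] [Module (A ⧸ R) N] [IsScalarTower A (A ⧸ R) N]
    (p : Ideal (A ⧸ R)) [p.IsPrime] (q : Ideal A) [q.IsPrime]
    (hq : q = p.comap (Ideal.Quotient.mk R))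
    [Module.Flat (Localization.AtPrime p) (LocalizedModule p.primeCompl N)] :
    IsWeaklyRegular (LocalizedModule q.primeCompl N) rs := by
  let π := Ideal.Quotient.mk R
  let L := LocalizedModule p.primeCompl N
  let g : N →ₗ[A] L := (LocalizedModule.mkLinearMap p.primeCompl N).restrictScalars A
  haveI : IsLocalizedModule q.primeCompl g := by
    have hmem : ∀ w : q.primeCompl, π w ∈ p.primeCompl := fun w hw => w.2 ((SetLike.ext_iff.mp hq (w : A)).mpr hw)
    refine ⟨fun w => ?_, fun z => ?_, fun {a b} h => ?_⟩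
    · have hu := IsLocalizedModule.map_units (LocalizedModule.mkLinearMap p.primeCompl N)
        (⟨π w, hmem w⟩ : p.primeCompl)
      rw [Module.End.isUnit_iff] at hu ⊢
      have key : ∀ z : L, (algebraMap A (Module.End A L) (w : A)) z =
          (algebraMap (A ⧸ R) (Module.End (A ⧸ R) L) (π w)) z := fun z =>
        (algebraMap_smul (A ⧸ R) (w : A) z).symm
      exact (funext key : ⇑(algebraMap A (Module.End A L) (w : A)) = _) ▸ hu
    · obtain ⟨⟨n, s⟩, hn⟩ := IsLocalizedModule.surj p.primeCompl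
        (LocalizedModule.mkLinearMap p.primeCompl N) z
      obtain ⟨w, hw⟩ := Ideal.Quotient.mk_surjective (s : A ⧸ R)
      refine ⟨(n, ⟨w, fun h => s.2 (by rw [← hw]; exact (SetLike.ext_iff.mp hq w).mp h)⟩), ?_⟩
      simp only [Submonoid.smul_def] at hn ⊢
      rw [← algebraMap_smul (A ⧸ R) w z, Ideal.Quotient.algebraMap_eq, hw]
      exact hn
    · obtain ⟨c, hc⟩ := IsLocalizedModule.exists_of_eq (S := p.primeCompl)
        (f := LocalizedModule.mkLinearMap p.primeCompl N) h
      obtain ⟨w, hw⟩ := Ideal.Quotient.mk_surjective (c : A ⧸ R)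
      refine ⟨⟨w, fun h => c.2 (by rw [← hw]; exact (SetLike.ext_iff.mp hq w).mp h)⟩, ?_⟩
      simp only [Submonoid.smul_def] at hc ⊢
      rw [← algebraMap_smul (A ⧸ R) w a, ← algebraMap_smul (A ⧸ R) w b, Ideal.Quotient.algebraMap_eq,
        hw]
      exact hc
  have h1 : IsWeaklyRegular (A ⧸ R) (rs.map (algebraMap A (A ⧸ R))) :=
    (isWeaklyRegular_map_algebraMap_iff (A ⧸ R) _ rs).mpr hreg
  have h2 := h1.of_isLocalization (Localization.AtPrime p) p.primeCompl
  have h3 := ((TensorProduct.rid (Localization.AtPrime p) L).isWeaklyRegular_congr _).mp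
    (h2.isWeaklyRegular_lTensor (M₂ := L))
  rw [isWeaklyRegular_map_algebraMap_iff, isWeaklyRegular_map_algebraMap_iff] at h3
  exact ((IsLocalizedModule.iso q.primeCompl g).isWeaklyRegular_congr rs).mpr h3

variable [IsNoetherianRing A]

/-- Associated primes of `A ⧸ Q` for `R ≤ Q`, over `A` and over `A ⧸ R`. -/
theorem mem_ass_quot {Q : Ideal A} (hRQ : R ≤ Q) {q : Ideal A}
    (hq : q ∈ associatedPrimes A (A ⧸ Q)) :
    q.map (Ideal.Quotient.mk R) ∈
        associatedPrimes (A ⧸ R) ((A ⧸ R) ⧸ Q.map (Ideal.Quotient.mk R)) ∧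
      q = (q.map (Ideal.Quotient.mk R)).comap (Ideal.Quotient.mk R) := by
  obtain ⟨hqp, a, ha⟩ := Alg6.mem_ass_iff.mp hq
  have hRq : R ≤ q := fun r hr => (ha r).mpr (by
    obtain ⟨a, rfl⟩ := Ideal.Quotient.mk_surjective a
    exact Ideal.Quotient.eq_zero_iff_mem.mpr (Q.mul_mem_right a (hRQ hr)))
  have hcm : (q.map (Ideal.Quotient.mk R)).comap (Ideal.Quotient.mk R) = q := by
    rw [Ideal.comap_map_of_surjective _ Ideal.Quotient.mk_surjective, ← RingHom.ker_eq_comap_bot,
      Ideal.mk_ker, sup_eq_left.mpr hRq]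
  refine ⟨?_, hcm.symm⟩
  haveI := hqp
  haveI : (q.map (Ideal.Quotient.mk R)).IsPrime :=
    Ideal.map_isPrime_of_surjective Ideal.Quotient.mk_surjective (by rwa [Ideal.mk_ker])
  obtain ⟨a, rfl⟩ := Ideal.Quotient.mk_surjective a
  refine Alg6.mem_ass_iff.mpr ⟨inferInstance,
    Ideal.Quotient.mk _ (Ideal.Quotient.mk R a), fun s => ?_⟩
  obtain ⟨s, rfl⟩ := Ideal.Quotient.mk_surjective s
  rw [← Ideal.mem_comap, hcm, ha]
  change Ideal.Quotient.mk Q (s * a) = 0 ↔
    Ideal.Quotient.mk _ (Ideal.Quotient.mk R s * Ideal.Quotient.mk R a) = 0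
  rw [Ideal.Quotient.eq_zero_iff_mem, Ideal.Quotient.eq_zero_iff_mem, ← map_mul, ← Ideal.mem_comap,
    Ideal.comap_map_of_surjective _ Ideal.Quotient.mk_surjective, ← RingHom.ker_eq_comap_bot,
    Ideal.mk_ker, sup_eq_left.mpr hRQ]

theorem normallyFlat_iff {R : Ideal A} (rs : List A) (hjac : ∀ r ∈ rs, r ∈ (⊥ : Ideal A).jacobson)
    (hreg : IsWeaklyRegular (A ⧸ R) rs) (M : Type u) [AddCommGroup M] [Module A M]
    [Module.Finite A M] :
    EGA4.IsNormallyFlat R M ↔ EGA4.IsNormallyFlat (R ⊔ Ideal.ofList rs) M ∧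
      ∀ (p : Ideal (A ⧸ R)) [p.IsPrime],
        p ∈ associatedPrimes (A ⧸ R)
          ((A ⧸ R) ⧸ Ideal.map (Ideal.Quotient.mk R) (R ⊔ Ideal.ofList rs)) →
        ∀ k : ℕ, Module.Flat (Localization.AtPrime p) (LocalizedModule p.primeCompl (Pc R M k)) := by
  constructor
  · intro h
    refine ⟨nf_ascent rs R hjac hreg h, fun p _ _ k => ?_⟩
    haveI : Module.Flat (A ⧸ R) (Pc R M k) := h k
    exact flat_localized_of_flat p
  · rintro ⟨h, hloc⟩
    refine nf_descend rs R hjac hreg (fun q _ hq => ?_) h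
    obtain ⟨hp, hcm⟩ := mem_ass_quot le_sup_left hq
    haveI : (q.map (Ideal.Quotient.mk R)).IsPrime := IsAssociatedPrime.isPrime hp
    rw [regPieces_iff_localized q.primeCompl (LocalizedModule.mkLinearMap q.primeCompl M)]
    intro i
    haveI := hloc _ hp i
    exact isWeaklyRegular_localized_of_flat rs hreg (Pc R M i) _ q hcm

end Groth.Agent.NFlat6
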