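import Groth.Agent.NFlat6.Ascent

/-!
# Regular sequences on the powers `R ^ k M`
-/

universe u

open TensorProduct RingTheory.Sequence Pointwise

namespace Groth.Agent.NFlat6

variable {A : Type u} [CommRing A] {R : Ideal A}

theorem regMod_all {x : A} {M : Type u} [AddCommGroup M] [Module A M] {rs : List A}
    (h : RegPieces R (x :: rs) M) (m : ℕ) : RegMod R x M m :=
  regMod_of_pieces fun i _ => ((isWeaklyRegular_cons_iff _ x rs).mp (h i)).1

section Quot

variable (R) (x : A) (M : Type u) [AddCommGroup M] [Module A M]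

theorem map_Pw_quot (k : ℕ) :
    (Pw R M k).map (x • ⊤ : Submodule A M).mkQ = Pw R (QuotSMulTop x M) k := by
  rw [Submodule.map_smul'', Submodule.map_top, Submodule.range_mkQ]

/-- `R ^ k M → R ^ k (M ⧸ x M)`. -/
noncomputable def pwQuot (k : ℕ) : ↥(Pw R M k) →ₗ[A] ↥(Pw R (QuotSMulTop x M) k) :=
  LinearMap.codRestrict _ ((x • ⊤ : Submodule A M).mkQ ∘ₗ (Pw R M k).subtype) fun y =>
    (map_Pw_quot R x M k) ▸ Submodule.mem_map_of_mem y.2

theorem pwQuot_surjective (k : ℕ) : Function.Surjective (pwQuot R x M k) := by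
  rintro ⟨z, hz⟩
  rw [← map_Pw_quot] at hz
  obtain ⟨y, hy, rfl⟩ := hz
  exact ⟨⟨y, hy⟩, rfl⟩

variable {R x M}

theorem pwQuot_mem_iff {k : ℕ} (h : RegMod R x M k) (y : ↥(Pw R M k)) :
    pwQuot R x M k y = 0 ↔ ∃ s : ↥(Pw R M k), x • s = y := by
  rw [← Subtype.coe_inj]
  change Submodule.Quotient.mk (y : M) = 0 ↔ _
  rw [Alg6.mem_pointwise_smul_top_iff]
  exact ⟨fun ⟨w, hw⟩ => ⟨⟨w, h w (hw ▸ y.2)⟩, Subtype.ext hw⟩,
    fun ⟨s, hs⟩ => ⟨s, congrArg Subtype.val hs⟩⟩

theorem exists_equiv_quotSMulTop_Pw {k : ℕ} (h : RegMod R x M k) :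
    Nonempty (QuotSMulTop x ↥(Pw R M k) ≃ₗ[A] ↥(Pw R (QuotSMulTop x M) k)) :=
  ⟨(Submodule.quotEquivOfEq _ _ (by
    ext y
    rw [LinearMap.mem_ker, pwQuot_mem_iff h, Submodule.mem_smul_pointwise_iff_exists]
    simp)).trans ((pwQuot R x M k).quotKerEquivOfSurjective (pwQuot_surjective R x M k))⟩

theorem exists_equiv_quotSMulTop_Pc {k : ℕ} (h : RegMod R x M k) :
    Nonempty (QuotSMulTop x (Pc R M k) ≃ₗ[A] Pc R (QuotSMulTop x M) k) := by
  have hle : (R • ⊤ : Submodule A ↥(Pw R M k)) ≤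
      (R • ⊤ : Submodule A ↥(Pw R (QuotSMulTop x M) k)).comap (pwQuot R x M k) := by
    rw [← Submodule.map_le_iff_le_comap, Submodule.map_smul'']
    exact Submodule.smul_mono le_rfl le_top
  let φ : Pc R M k →ₗ[A] Pc R (QuotSMulTop x M) k := Submodule.mapQ _ _ (pwQuot R x M k) hle
  have hφ : Function.Surjective φ := by
    intro z
    obtain ⟨z, rfl⟩ := Submodule.Quotient.mk_surjective _ z
    obtain ⟨y, rfl⟩ := pwQuot_surjective R x M k z
    exact ⟨Submodule.Quotient.mk y, rfl⟩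
  refine ⟨(Submodule.quotEquivOfEq _ _ ?_).trans (φ.quotKerEquivOfSurjective hφ)⟩
  apply le_antisymm
  · intro z hz
    obtain ⟨w, -, rfl⟩ := (Submodule.mem_smul_pointwise_iff_exists _ _ _).mp hz
    obtain ⟨w, rfl⟩ := Submodule.Quotient.mk_surjective _ w
    rw [LinearMap.mem_ker, map_smul]
    change Submodule.Quotient.mk (x • pwQuot R x M k w) = 0
    rw [← map_smul, (pwQuot_mem_iff h _).mpr ⟨w, rfl⟩, Submodule.Quotient.mk_zero]
  · intro z hz
    obtain ⟨y, rfl⟩ := Submodule.Quotient.mk_surjective _ z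
    have hy : pwQuot R x M k y ∈ (R • ⊤ : Submodule A ↥(Pw R (QuotSMulTop x M) k)) :=
      (Submodule.Quotient.mk_eq_zero _).mp hz
    rw [← LinearMap.range_eq_top.mpr (pwQuot_surjective R x M k), LinearMap.range_eq_map,
      ← Submodule.map_smul''] at hy
    obtain ⟨r, hr, hry⟩ := hy
    obtain ⟨s, hs⟩ := (pwQuot_mem_iff h (y - r)).mp (by rw [map_sub, hry, sub_self])
    refine (Submodule.mem_smul_pointwise_iff_exists _ _ _).mpr
      ⟨Submodule.Quotient.mk s, Submodule.mem_top, ?_⟩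
    rw [← Submodule.Quotient.mk_smul, hs, Submodule.Quotient.eq, sub_sub_cancel_left]
    exact neg_mem hr

end Quot

theorem isWeaklyRegular_Pw [IsNoetherianRing A] (hR : R ≤ (⊥ : Ideal A).jacobson) :
    ∀ (rs : List A) (M : Type u) [AddCommGroup M] [Module A M] [Module.Finite A M],
    RegPieces R rs M → ∀ k, IsWeaklyRegular ↥(Pw R M k) rs := by
  intro rs
  induction rs with
  | nil => intro M _ _ _ _ k; exact IsWeaklyRegular.nil A _
  | cons x rs ih =>
    intro M _ _ _ h k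
    rw [isWeaklyRegular_cons_iff]
    refine ⟨?_, ?_⟩
    · rw [isSMulRegular_iff_right_eq_zero_of_smul]
      intro y hy
      refine Subtype.ext (LocalCrit.eq_zero_of_forall_mem_smul R hR fun n => regMod_all h n _ ?_)
      rw [show x • (y : M) = 0 from congrArg Subtype.val hy]
      exact zero_mem _
    · obtain ⟨e⟩ := exists_equiv_quotSMulTop_Pw (regMod_all h k)
      refine (e.isWeaklyRegular_congr rs).mpr (ih (QuotSMulTop x M) (fun i => ?_) k)
      obtain ⟨e'⟩ := exists_equiv_quotSMulTop_Pc (regMod_all h i)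
      exact (e'.isWeaklyRegular_congr rs).mp ((isWeaklyRegular_cons_iff _ x rs).mp (h i)).2

theorem regPieces_of_nf {M : Type u} [AddCommGroup M] [Module A M] (rs : List A)
    (hreg : IsWeaklyRegular (A ⧸ R) rs) (h : ∀ i, Module.Flat (A ⧸ R) (Pc R M i)) :
    RegPieces R rs M := by
  intro i
  haveI := h i
  have h1 := ((TensorProduct.rid (A ⧸ R) (Pc R M i)).isWeaklyRegular_congr _).mp
    (((isWeaklyRegular_map_algebraMap_iff (A ⧸ R) _ rs).mpr hreg).isWeaklyRegular_lTensor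
      (M₂ := Pc R M i))
  exact (isWeaklyRegular_map_algebraMap_iff (A ⧸ R) _ rs).mp h1

end Groth.Agent.NFlat6
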