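import Groth.Agent.LocalCrit.Flatness
import Groth.Agent.RegLoc6.Seq
import Mathlib.RingTheory.Regular.Flat
import Mathlib.RingTheory.Flat.Stability

/-!
# Flatness and regular sequences in the Jacobson radical
-/

universe u v

open TensorProduct RingTheory.Sequence

namespace Groth.Agent.NFlat6

/-- Flatness transfers along a semilinear equivalence over a ring isomorphism. -/
theorem flat_of_semilinear {T T' : Type u} [CommRing T] [CommRing T'] (σ : T ≃+* T')
    {X : Type v} [AddCommGroup X] [Module T X] {Y : Type v} [AddCommGroup Y] [Module T' Y]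
    (e : X ≃+ Y) (he : ∀ t x, e (t • x) = σ t • e x) [Module.Flat T X] : Module.Flat T' Y := by
  letI : Algebra T T' := σ.toRingHom.toAlgebra
  letI : Module T Y := Module.compHom Y σ.toRingHom
  haveI : IsScalarTower T T' Y := ⟨fun t t' y => mul_smul (σ t) t' y⟩
  let le : Y ≃ₗ[T] X := AddEquiv.toLinearEquiv (R := T) (M := Y) (M₂ := X) e.symm fun t y => e.injective (by
    change e (e.symm (σ t • y)) = e (t • e.symm y)
    rw [AddEquiv.apply_symm_apply, he, AddEquiv.apply_symm_apply])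
  haveI : Module.Flat T Y := Module.Flat.of_linearEquiv le
  let m : T' ⊗[T] Y →ₗ[T'] Y := (LinearMap.id : Y →ₗ[T] Y).liftBaseChange T'
  have h1 : ∀ z : T' ⊗[T] Y, ∃ y : Y, (1 : T') ⊗ₜ[T] y = z := by
    intro z
    induction z using TensorProduct.induction_on with
    | zero => exact ⟨0, tmul_zero ..⟩
    | tmul t' y =>
      obtain ⟨t, rfl⟩ := σ.surjective t'
      exact ⟨t • y, by rw [tmul_smul, smul_tmul', Algebra.smul_def, mul_one]; rfl⟩
    | add a b ha hb =>
      obtain ⟨ya, rfl⟩ := ha; obtain ⟨yb, rfl⟩ := hb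
      exact ⟨ya + yb, tmul_add ..⟩
  have hm : ∀ y : Y, m ((1 : T') ⊗ₜ[T] y) = y := fun y => by simp [m]
  have hb : Function.Bijective m := by
    refine ⟨fun z z' h => ?_, fun y => ⟨_, hm y⟩⟩
    obtain ⟨y, rfl⟩ := h1 z; obtain ⟨y', rfl⟩ := h1 z'
    rw [hm, hm] at h
    rw [h]
  exact Module.Flat.of_linearEquiv (LinearEquiv.ofBijective m hb).symm

variable {S : Type u} [CommRing S]

/-- `(S ⧸ I) ⊗ N ≃ N ⧸ IN`, linear over `S ⧸ I`. -/
noncomputable def quotTensorEquiv (I : Ideal S) (N : Type u) [AddCommGroup N] [Module S N] :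
    (S ⧸ I) ⊗[S] N ≃ₗ[S ⧸ I] N ⧸ (I • ⊤ : Submodule S N) :=
  (TensorProduct.quotTensorEquivQuotSMul N I).extendScalarsOfSurjective Ideal.Quotient.mk_surjective

theorem flat_tensor_of_hom (N : Type u) [AddCommGroup N] [Module S N] (A B : Type u) [CommRing A]
    [Algebra S A] [CommRing B] [Algebra S B] (φ : A →ₐ[S] B) [Module.Flat A (A ⊗[S] N)] :
    Module.Flat B (B ⊗[S] N) := by
  letI : Algebra A B := φ.toRingHom.toAlgebra
  haveI : IsScalarTower S A B := IsScalarTower.of_algebraMap_eq fun s => (φ.commutes s).symm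
  exact Module.Flat.of_linearEquiv (AlgebraTensorModule.cancelBaseChange S A B B N).symm

theorem flat_quot_iff (I : Ideal S) (N : Type u) [AddCommGroup N] [Module S N] :
    Module.Flat (S ⧸ I) (N ⧸ (I • ⊤ : Submodule S N)) ↔ Module.Flat (S ⧸ I) ((S ⧸ I) ⊗[S] N) :=
  (Module.Flat.equiv_iff (quotTensorEquiv I N)).symm

theorem rTensor_span_singleton_injective {x : S} (hx : IsSMulRegular S x) (N : Type u)
    [AddCommGroup N] [Module S N] (hN : IsSMulRegular N x) :
    Function.Injective ((Ideal.span {x}).subtype.rTensor N) := by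
  let c : S →ₗ[S] (Ideal.span {x} : Ideal S) :=
    LinearMap.codRestrict _ (LinearMap.lsmul S S x) fun a =>
      Ideal.mul_mem_right a _ (Ideal.mem_span_singleton_self x)
  have hc : Function.Surjective c := by
    rintro ⟨y, hy⟩
    obtain ⟨a, rfl⟩ := Ideal.mem_span_singleton.mp hy
    exact ⟨a, rfl⟩
  have hcomp : (TensorProduct.lid S N).toLinearMap ∘ₗ
      (Ideal.span {x}).subtype.rTensor N ∘ₗ c.rTensor N =
      LinearMap.lsmul S N x ∘ₗ (TensorProduct.lid S N).toLinearMap := by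
    ext n
    simp [c] <;> exact congrArg (· • n) (mul_one x)
  intro p q hpq
  obtain ⟨p, rfl⟩ := LinearMap.rTensor_surjective N hc p
  obtain ⟨q, rfl⟩ := LinearMap.rTensor_surjective N hc q
  have hp := LinearMap.congr_fun hcomp p
  have hq := LinearMap.congr_fun hcomp q
  simp only [LinearMap.comp_apply, LinearEquiv.coe_coe, hpq] at hp hq
  exact congrArg _ ((TensorProduct.lid S N).injective (hN (hp.symm.trans hq)))

theorem flat_of_quotient_of_regular : ∀ (k : ℕ) (S : Type u) [CommRing S] [IsNoetherianRing S]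
    (rs : List S), rs.length = k → (∀ r ∈ rs, r ∈ (⊥ : Ideal S).jacobson) →
    IsWeaklyRegular S rs → ∀ (N : Type u) [AddCommGroup N] [Module S N] [Module.Finite S N],
    IsWeaklyRegular N rs →
    Module.Flat (S ⧸ Ideal.ofList rs) ((S ⧸ Ideal.ofList rs) ⊗[S] N) → Module.Flat S N := by
  intro k
  induction k with
  | zero =>
    intro S _ _ rs hlen _ _ N _ _ _ _ hflat
    rw [List.length_eq_zero_iff.mp hlen] at hflat
    haveI := hflat
    let φ : (S ⧸ Ideal.ofList ([] : List S)) →ₐ[S] S :=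
      Ideal.Quotient.liftₐ _ (AlgHom.id S S) (by simp)
    haveI := flat_tensor_of_hom N _ _ φ
    exact Module.Flat.of_linearEquiv (TensorProduct.lid S N).symm
  | succ k ih =>
    intro S _ _ rs hlen hjac hreg N _ _ _ hN hflat
    obtain ⟨x, rs', rfl⟩ : ∃ x rs', rs = x :: rs' := by
      match rs, hlen with
      | x :: rs', _ => exact ⟨x, rs', rfl⟩
    rw [Groth.Agent.RegLoc6.isWeaklyRegular_cons_quot_iff] at hreg
    rw [isWeaklyRegular_cons_iff] at hN
    let I : Ideal S := Ideal.span {x}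
    let π := Ideal.Quotient.mk I
    have hI : I ≤ (⊥ : Ideal S).jacobson :=
      (Ideal.span_singleton_le_iff_mem _).mpr (hjac x (List.mem_cons_self ..))
    have hjac' : ∀ r ∈ rs'.map π, r ∈ (⊥ : Ideal (S ⧸ I)).jacobson := by
      intro r hr
      obtain ⟨a, ha, rfl⟩ := List.mem_map.mp hr
      rw [Ideal.mem_jacobson_bot]
      intro y
      obtain ⟨y, rfl⟩ := Ideal.Quotient.mk_surjective y
      have h1 := (Ideal.mem_jacobson_bot.mp (hjac a (List.mem_cons_of_mem _ ha))) y
      simpa using h1.map π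
    let e : QuotSMulTop x N ≃ₗ[S] (S ⧸ I) ⊗[S] N :=
      (Submodule.quotEquivOfEq _ _ (Submodule.ideal_span_singleton_smul x ⊤).symm).trans
        (TensorProduct.quotTensorEquivQuotSMul N I).symm
    have hN' : IsWeaklyRegular ((S ⧸ I) ⊗[S] N) (rs'.map π) :=
      (isWeaklyRegular_map_algebraMap_iff (S ⧸ I) _ rs').mpr
        ((e.isWeaklyRegular_congr rs').mp hN.2)
    haveI := hflat
    let J : Ideal (S ⧸ I) := Ideal.ofList (rs'.map π)
    let φ : (S ⧸ Ideal.ofList (x :: rs')) →ₐ[S] (S ⧸ I) ⧸ J :=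
      Ideal.Quotient.liftₐ _ (Algebra.ofId S _) (by
        intro a ha
        rw [Ideal.ofList_cons, Submodule.mem_sup] at ha
        obtain ⟨b, hb, c, hc, rfl⟩ := ha
        rw [Algebra.ofId_apply, IsScalarTower.algebraMap_apply S (S ⧸ I) ((S ⧸ I) ⧸ J), map_add]
        simp only [Ideal.Quotient.algebraMap_eq]
        rw [Ideal.Quotient.eq_zero_iff_mem.mpr (show b ∈ I from hb), zero_add,
          Ideal.Quotient.eq_zero_iff_mem]
        change π c ∈ Ideal.ofList (rs'.map π)
        rw [← Ideal.map_ofList]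
        exact Ideal.mem_map_of_mem π hc)
    haveI := flat_tensor_of_hom N _ _ φ
    have hJ : Module.Flat ((S ⧸ I) ⧸ J) (((S ⧸ I) ⧸ J) ⊗[S ⧸ I] ((S ⧸ I) ⊗[S] N)) :=
      Module.Flat.of_linearEquiv
        (AlgebraTensorModule.cancelBaseChange S (S ⧸ I) ((S ⧸ I) ⧸ J) ((S ⧸ I) ⧸ J) N)
    haveI : Module.Flat (S ⧸ I) ((S ⧸ I) ⊗[S] N) :=
      ih (S ⧸ I) (rs'.map π) (by simpa using hlen) hjac' hreg.2 _ hN' hJ
    exact LocalCrit.flat_of_le_jacobson (B := S) I (by simpa using hI)
      (rTensor_span_singleton_injective hreg.1 N hN.1) (LocalCrit.keepsInjective_of_flat I N)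

theorem flat_iff_quotient_and_regular [IsNoetherianRing S] (rs : List S)
    (hjac : ∀ r ∈ rs, r ∈ (⊥ : Ideal S).jacobson) (hreg : IsWeaklyRegular S rs)
    (N : Type u) [AddCommGroup N] [Module S N] [Module.Finite S N] :
    Module.Flat S N ↔ Module.Flat (S ⧸ Ideal.ofList rs) (N ⧸ (Ideal.ofList rs • ⊤ : Submodule S N))
      ∧ IsWeaklyRegular N rs := by
  refine ⟨fun h => ?_, fun h => flat_of_quotient_of_regular _ S rs rfl hjac hreg N h.2
    ((flat_quot_iff _ N).mp h.1)⟩
  haveI := h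
  exact ⟨(flat_quot_iff _ N).mpr inferInstance,
    ((TensorProduct.rid S N).isWeaklyRegular_congr rs).mp (hreg.isWeaklyRegular_lTensor (M₂ := N))⟩

/-- Flatness over `A ⧸ R` of a finite module is detected modulo a regular sequence in the radical. -/
theorem piece_iff {A : Type u} [CommRing A] [IsNoetherianRing A] (R : Ideal A) (rs : List A)
    (hjac : ∀ r ∈ rs, r ∈ (⊥ : Ideal A).jacobson) (hreg : IsWeaklyRegular (A ⧸ R) rs)
    (N : Type u) [AddCommGroup N] [Module A N] [Module (A ⧸ R) N] [IsScalarTower A (A ⧸ R) N]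
    [Module.Finite A N] :
    Module.Flat (A ⧸ R) N ↔ Module.Flat (A ⧸ (R ⊔ Ideal.ofList rs))
        (N ⧸ ((R ⊔ Ideal.ofList rs) • ⊤ : Submodule A N)) ∧ IsWeaklyRegular N rs := by
  haveI : Module.Finite (A ⧸ R) N := Module.Finite.of_restrictScalars_finite A _ _
  let π := Ideal.Quotient.mk R
  have hjac' : ∀ r ∈ rs.map π, r ∈ (⊥ : Ideal (A ⧸ R)).jacobson := by
    intro r hr
    obtain ⟨a, ha, rfl⟩ := List.mem_map.mp hr
    rw [Ideal.mem_jacobson_bot]
    intro y
    obtain ⟨y, rfl⟩ := Ideal.Quotient.mk_surjective y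
    have h1 := (Ideal.mem_jacobson_bot.mp (hjac a ha)) y
    simpa using h1.map π
  have hreg' : IsWeaklyRegular (A ⧸ R) (rs.map π) :=
    (isWeaklyRegular_map_algebraMap_iff (A ⧸ R) _ rs).mpr hreg
  rw [flat_iff_quotient_and_regular (rs.map π) hjac' hreg' N]
  have hmap : IsWeaklyRegular N (rs.map π) ↔ IsWeaklyRegular N rs :=
    isWeaklyRegular_map_algebraMap_iff (A ⧸ R) N rs
  rw [hmap]
  refine and_congr_left' ?_
  set Q : Ideal A := R ⊔ Ideal.ofList rs
  set I : Ideal (A ⧸ R) := Ideal.ofList (rs.map π)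
  have hI : (Ideal.ofList rs).map π = I := Ideal.map_ofList π rs
  have hQ : Q.map π = I := by
    rw [Ideal.map_sup, Ideal.map_quotient_self, bot_sup_eq, hI]
  have hsub : (I • ⊤ : Submodule (A ⧸ R) N).restrictScalars A = Q • ⊤ := by
    rw [← hQ]
    exact Ideal.smul_restrictScalars Q (⊤ : Submodule (A ⧸ R) N)
  let σ : (A ⧸ R) ⧸ I ≃+* A ⧸ Q :=
    (Ideal.quotEquivOfEq hI.symm).trans (DoubleQuot.quotQuotEquivQuotSup R (Ideal.ofList rs))
  let e : (N ⧸ (I • ⊤ : Submodule (A ⧸ R) N)) ≃ₗ[A] N ⧸ (Q • ⊤ : Submodule A N) :=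
    (Submodule.Quotient.restrictScalarsEquiv A _).symm.trans (Submodule.quotEquivOfEq _ _ hsub)
  have he : ∀ t x, e (t • x) = σ t • e x := by
    intro t x
    obtain ⟨t, rfl⟩ := Ideal.Quotient.mk_surjective t
    obtain ⟨a, rfl⟩ := Ideal.Quotient.mk_surjective t
    obtain ⟨n, rfl⟩ := Submodule.Quotient.mk_surjective _ x
    have hσ : σ (Ideal.Quotient.mk I (Ideal.Quotient.mk R a)) = Ideal.Quotient.mk Q a := rfl
    rw [hσ]
    change e (Submodule.Quotient.mk (algebraMap A (A ⧸ R) a • n)) = _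
    rw [algebraMap_smul]
    exact e.map_smul a (Submodule.Quotient.mk n)
  constructor
  · intro h
    exact flat_of_semilinear σ e.toAddEquiv he
  · intro h
    refine flat_of_semilinear σ.symm e.symm.toAddEquiv fun t y => ?_
    obtain ⟨t, rfl⟩ := σ.surjective t
    apply e.injective
    show e (e.symm (σ t • y)) = e (σ.symm (σ t) • e.symm y)
    rw [he, RingEquiv.symm_apply_apply, LinearEquiv.apply_symm_apply, LinearEquiv.apply_symm_apply]

theorem span_range_eq_ofList {A : Type u} [CommRing A] {n : ℕ} (f : Fin n → A) :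
    Ideal.span (Set.range f) = Ideal.ofList (List.ofFn f) := by
  refine congrArg Ideal.span ?_
  ext x
  exact List.mem_ofFn.symm

end Groth.Agent.NFlat6
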