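import Groth.Agent.NFlat6.Ascent
import Mathlib.RingTheory.Regular.Flat

/-!
# Normal flatness along a smaller ideal
-/

universe u

open TensorProduct RingTheory.Sequence Pointwise

namespace Groth.Agent.NFlat6

variable {A : Type u} [CommRing A] {R : Ideal A} {M : Type u} [AddCommGroup M] [Module A M]

section Localization

variable (W : Submonoid A) {M' : Type u} [AddCommGroup M'] [Module A M'] (f : M →ₗ[A] M')

theorem map_mem_Pw {i : ℕ} {z : M} (hz : z ∈ Pw R M i) : f z ∈ Pw R M' i := by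
  induction hz using Submodule.smul_induction_on' with
  | smul a ha y _ => rw [map_smul]; exact Submodule.smul_mem_smul ha Submodule.mem_top
  | add y _ z _ hy hz => rw [map_add]; exact add_mem hy hz

variable [IsLocalizedModule W f]
include f

theorem exists_preimage_Pw {i : ℕ} {z : M'} (hz : z ∈ Pw R M' i) :
    ∃ w ∈ W, ∃ y ∈ Pw R M i, w • z = f y := by
  induction hz using Submodule.smul_induction_on' with
  | smul a ha y _ =>
    obtain ⟨⟨y', w⟩, hy⟩ := IsLocalizedModule.surj W f y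
    exact ⟨w, w.2, a • y', Submodule.smul_mem_smul ha Submodule.mem_top, by
      rw [smul_comm, map_smul]; exact congrArg (a • ·) hy⟩
  | add y _ z _ hy hz =>
    obtain ⟨v, hv, y', hy', hvy⟩ := hy
    obtain ⟨w, hw, z', hz', hwz⟩ := hz
    refine ⟨v * w, mul_mem hv hw, w • y' + v • z',
      add_mem (Submodule.smul_mem _ _ hy') (Submodule.smul_mem _ _ hz'), ?_⟩
    rw [map_add, map_smul, map_smul, ← hvy, ← hwz, smul_add, mul_smul, mul_smul, smul_comm v w y]

theorem mem_Pw_of_smul_mem {i : ℕ} {w : A} (hw : w ∈ W) {z : M'} (hz : w • z ∈ Pw R M' i) :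
    z ∈ Pw R M' i := by
  have hu := IsLocalizedModule.map_units f (⟨w, hw⟩ : W)
  rw [Module.End.isUnit_iff] at hu
  let e := LinearEquiv.ofBijective _ hu
  have h1 := map_mem_Pw (R := R) e.symm.toLinearMap hz
  have h2 : e.symm (w • z) = z := e.symm_apply_apply z
  rwa [LinearEquiv.coe_coe, h2] at h1

/-- The map on pieces. -/
noncomputable def pcMap (i : ℕ) : Pc R M i →ₗ[A] Pc R M' i :=
  Submodule.mapQ _ _
    (LinearMap.codRestrict (Pw R M' i) (f ∘ₗ (Pw R M i).subtype) fun y => map_mem_Pw f y.2)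
    (fun y hy => by
      rw [Submodule.mem_comap, mem_smul_top_iff_val]
      exact map_mem_Pw f ((mem_smul_top_iff_val y).mp hy))

theorem pcMap_mk {i : ℕ} (y : ↥(Pw R M i)) :
    pcMap (R := R) f i (Submodule.Quotient.mk y) =
      Submodule.Quotient.mk ⟨f y, map_mem_Pw f y.2⟩ := rfl

theorem isLocalizedModule_pcMap (i : ℕ) : IsLocalizedModule W (pcMap (R := R) f i) where
  map_units w := by
    rw [Module.End.isUnit_iff]
    have hu := IsLocalizedModule.map_units f w
    rw [Module.End.isUnit_iff] at hu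
    refine ⟨fun a b h => ?_, fun a => ?_⟩
    · obtain ⟨a, rfl⟩ := Submodule.Quotient.mk_surjective _ a
      obtain ⟨b, rfl⟩ := Submodule.Quotient.mk_surjective _ b
      rw [Submodule.Quotient.eq, mem_smul_top_iff_val]
      simp only [Module.algebraMap_end_apply] at h
      rw [← Submodule.Quotient.mk_smul, ← Submodule.Quotient.mk_smul, Submodule.Quotient.eq,
        mem_smul_top_iff_val] at h
      refine mem_Pw_of_smul_mem W f w.2 ?_
      simpa [smul_sub] using h
    · obtain ⟨⟨a, ha⟩, rfl⟩ := Submodule.Quotient.mk_surjective _ a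
      obtain ⟨b, hb⟩ := hu.2 a
      have hb' : (w : A) • b = a := hb
      exact ⟨Submodule.Quotient.mk ⟨b, mem_Pw_of_smul_mem W f w.2 (hb'.symm ▸ ha)⟩, by
        simp only [Module.algebraMap_end_apply]
        rw [← Submodule.Quotient.mk_smul]
        exact congrArg Submodule.Quotient.mk (Subtype.ext hb')⟩
  surj z := by
    obtain ⟨⟨z, hz⟩, rfl⟩ := Submodule.Quotient.mk_surjective _ z
    obtain ⟨w, hw, y, hy, hwy⟩ := exists_preimage_Pw W f hz
    exact ⟨(Submodule.Quotient.mk ⟨y, hy⟩, ⟨w, hw⟩), by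
      simp only [Submonoid.smul_def]
      rw [← Submodule.Quotient.mk_smul, pcMap_mk]
      exact congrArg Submodule.Quotient.mk (Subtype.ext hwy)⟩
  exists_of_eq {a b} h := by
    obtain ⟨a, rfl⟩ := Submodule.Quotient.mk_surjective _ a
    obtain ⟨b, rfl⟩ := Submodule.Quotient.mk_surjective _ b
    rw [pcMap_mk, pcMap_mk, Submodule.Quotient.eq, mem_smul_top_iff_val] at h
    obtain ⟨w, hw, y, hy, hwy⟩ := exists_preimage_Pw W f h
    have : f (w • ((a : M) - b)) = f y := by rw [map_smul, map_sub]; exact hwy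
    obtain ⟨c, hc⟩ := IsLocalizedModule.exists_of_eq (S := W) this
    refine ⟨c * ⟨w, hw⟩, ?_⟩
    simp only [Submonoid.smul_def, Submonoid.coe_mul]
    rw [← Submodule.Quotient.mk_smul, ← Submodule.Quotient.mk_smul, Submodule.Quotient.eq,
      mem_smul_top_iff_val]
    have hc' : (c : A) • (w • ((a : M) - b)) = (c : A) • y := hc
    have : (((c : A) * w) • a - ((c : A) * w) • b : ↥(Pw R M i)).1 = (c : A) • y := by
      rw [← hc', smul_smul, smul_sub]; rfl
    rw [this]
    exact Submodule.smul_mem _ _ hy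

theorem regPieces_iff_localized (rs : List A) :
    RegPieces R rs M' ↔ ∀ i, IsWeaklyRegular (LocalizedModule W (Pc R M i)) rs := by
  refine forall_congr' fun i => ?_
  haveI := isLocalizedModule_pcMap (R := R) W f i
  exact (IsLocalizedModule.iso W (pcMap (R := R) f i)).symm.isWeaklyRegular_congr rs

theorem exists_smul_mem_of_regPieces {x : A} {rs : List A} (h : RegPieces R (x :: rs) M')
    (m j : ℕ) {q : M} (hq : x ^ j • q ∈ Pw R M m) : ∃ w ∈ W, w • q ∈ Pw R M m := by
  have hx : RegMod R x M' m :=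
    regMod_of_pieces fun i _ => ((isWeaklyRegular_cons_iff _ x rs).mp (h i)).1
  have hj : ∀ (j : ℕ) (z : M'), x ^ j • z ∈ Pw R M' m → z ∈ Pw R M' m := by
    intro j
    induction j with
    | zero => intro z hz; simpa using hz
    | succ j ih => intro z hz; exact hx z (ih (x • z) (by rwa [smul_smul, ← pow_succ]))
  have h1 : f q ∈ Pw R M' m := hj j (f q) (by rw [← map_smul]; exact map_mem_Pw f hq)
  obtain ⟨w, hw, y, hy, hwy⟩ := exists_preimage_Pw W f h1
  rw [← map_smul] at hwy
  obtain ⟨c, hc⟩ := IsLocalizedModule.exists_of_eq (S := W) hwy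
  refine ⟨(c : A) * w, mul_mem c.2 hw, ?_⟩
  rw [mul_smul]
  exact (show (c : A) • w • q = (c : A) • y from hc) ▸ Submodule.smul_mem _ _ hy

end Localization

section Ass

variable [IsNoetherianRing A]

/-- An element of a flat module over `A ⧸ Q` killed outside every associated prime vanishes. -/
theorem eq_zero_of_flat {Q : Ideal A} {G : Type u} [AddCommGroup G] [Module A G]
    [Module (A ⧸ Q) G] [IsScalarTower A (A ⧸ Q) G] [Module.Flat (A ⧸ Q) G] (z : G)
    (h : ∀ p ∈ associatedPrimes A (A ⧸ Q), ∃ s, s ∉ p ∧ s • z = 0) : z = 0 := by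
  let I : Ideal A := LinearMap.ker (LinearMap.toSpanSingleton A G z)
  have hI : ∀ p ∈ associatedPrimes A (A ⧸ Q), ¬ I ≤ p := by
    intro p hp hle
    obtain ⟨s, hs, hsz⟩ := h p hp
    exact hs (hle hsz)
  obtain ⟨t, ht, htr⟩ := (Alg6.exists_isSMulRegular_mem_iff (M := A ⧸ Q) I).mpr hI
  have h1 : IsWeaklyRegular (A ⧸ Q) [algebraMap A (A ⧸ Q) t] :=
    (isWeaklyRegular_singleton_iff _ _).mpr (by
      rw [isSMulRegular_algebraMap_iff]; exact htr)
  have h2 := ((TensorProduct.rid (A ⧸ Q) G).isWeaklyRegular_congr _).mp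
    (h1.isWeaklyRegular_lTensor (M₂ := G))
  rw [isWeaklyRegular_singleton_iff, isSMulRegular_algebraMap_iff] at h2
  exact h2.right_eq_zero_of_smul (show t • z = 0 from ht)

/-- Associated primes of `A ⧸ R` are contained in associated primes of `A ⧸ (R + (x))`. -/
theorem exists_ass_sup {x : A} (hx : x ∈ (⊥ : Ideal A).jacobson)
    (hreg : IsSMulRegular (A ⧸ R) x) {p : Ideal A} (hp : p ∈ associatedPrimes A (A ⧸ R)) :
    ∃ q ∈ associatedPrimes A (A ⧸ (R ⊔ Ideal.span {x})), p ≤ q := by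
  classical
  obtain ⟨hpp, a, ha⟩ := Alg6.mem_ass_iff.mp hp
  have ha0 : a ≠ 0 := fun h0 =>
    hpp.ne_top (Ideal.eq_top_of_isUnit_mem _ ((ha 1).mpr (by simp [h0])) isUnit_one)
  have hn : ∃ n, ¬ ∃ b, a = x ^ n • b := by
    by_contra hc
    push Not at hc
    refine ha0 (LocalCrit.eq_zero_of_forall_mem_smul (Ideal.span {x})
      ((Ideal.span_singleton_le_iff_mem _).mpr hx) fun n => ?_)
    obtain ⟨b, hb⟩ := hc n
    rw [hb, Ideal.span_singleton_pow]
    exact Submodule.smul_mem_smul (Ideal.mem_span_singleton_self _) Submodule.mem_top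
  let n := Nat.find hn
  have hn0 : n ≠ 0 := fun h0 => Nat.find_spec hn ⟨a, by rw [show Nat.find hn = 0 from h0, pow_zero]; exact (one_smul A a).symm⟩
  obtain ⟨k, hk⟩ := Nat.exists_eq_succ_of_ne_zero hn0
  obtain ⟨b, hb⟩ : ∃ b, a = x ^ k • b := by
    by_contra hc
    exact Nat.find_min hn (show k < Nat.find hn by have : Nat.find hn = k + 1 := hk; omega) hc
  have hbx : ∀ c, b ≠ x • c := fun c hc => Nat.find_spec hn
    ⟨c, by rw [show Nat.find hn = k.succ from hk, pow_succ, mul_smul, ← hc, hb]⟩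
  have hkill : ∀ s ∈ p, s • b = 0 := by
    intro s hs
    refine (hreg.pow k).right_eq_zero_of_smul ?_
    rw [smul_comm, ← hb, (ha s).mp hs]
  obtain ⟨b, rfl⟩ := Ideal.Quotient.mk_surjective b
  have hb0 : Ideal.Quotient.mk (R ⊔ Ideal.span {x}) b ≠ 0 := by
    intro h0
    rw [Ideal.Quotient.eq_zero_iff_mem, Submodule.mem_sup] at h0
    obtain ⟨r, hr, y, hy, hry⟩ := h0
    obtain ⟨c, hc⟩ := Ideal.mem_span_singleton'.mp hy
    refine hbx (Ideal.Quotient.mk R c) ?_
    rw [← hry, map_add, Ideal.Quotient.eq_zero_iff_mem.mpr hr, zero_add, ← hc, mul_comm]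
    rfl
  obtain ⟨q, hq, hle⟩ := Alg6.exists_ass_ge (R := A) hb0
  refine ⟨q, hq, fun s hs => hle s ?_⟩
  change Ideal.Quotient.mk (R ⊔ Ideal.span {x}) (s * b) = 0
  have : s * b ∈ R := Ideal.Quotient.eq_zero_iff_mem.mp (hkill s hs)
  exact Ideal.Quotient.eq_zero_iff_mem.mpr (Submodule.mem_sup_left this)

theorem exists_ass_ofList : ∀ (rs : List A) (R : Ideal A),
    (∀ r ∈ rs, r ∈ (⊥ : Ideal A).jacobson) → IsWeaklyRegular (A ⧸ R) rs →
    ∀ p ∈ associatedPrimes A (A ⧸ R), ∃ q ∈ associatedPrimes A (A ⧸ (R ⊔ Ideal.ofList rs)), p ≤ q := by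
  intro rs
  induction rs with
  | nil => intro R _ _ p hp; exact ⟨p, by rwa [Ideal.ofList_nil, sup_bot_eq], le_rfl⟩
  | cons x rs ih =>
    intro R hjac hreg p hp
    rw [isWeaklyRegular_cons_sup_iff, isWeaklyRegular_singleton_iff] at hreg
    obtain ⟨q, hq, hpq⟩ := exists_ass_sup (hjac x (List.mem_cons_self ..)) hreg.1 hp
    obtain ⟨q', hq', hqq'⟩ := ih _ (fun r hr => hjac r (List.mem_cons_of_mem _ hr)) hreg.2 q hq
    refine ⟨q', ?_, hpq.trans hqq'⟩
    rwa [Ideal.ofList_cons, ← sup_assoc]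

variable [Module.Finite A M]

/-- One step of the converse. -/
theorem nf_descend_step {x : A} (hx : x ∈ (⊥ : Ideal A).jacobson)
    (hreg : IsWeaklyRegular (A ⧸ R) [x]) (hQ : EGA4.IsNormallyFlat (R ⊔ Ideal.span {x}) M)
    (hloc : ∀ p ∈ associatedPrimes A (A ⧸ (R ⊔ Ideal.span {x})), ∀ (m j : ℕ) (q : M),
      x ^ j • q ∈ Pw R M m → ∃ s, s ∉ p ∧ s • q ∈ Pw R M m) :
    EGA4.IsNormallyFlat R M := by
  -- an element of `R ^ k M` with some `x ^ j` multiple in `R ^ (k+1) M` lies in `Q ^ (k+1) M`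
  have hA : ∀ (k j : ℕ) (y : M), y ∈ Pw R M k → x ^ j • y ∈ Pw R M (k + 1) →
      y ∈ Pw (R ⊔ Ideal.span {x}) M (k + 1) := by
    intro k j y hy hxy
    haveI : Module.Flat (A ⧸ (R ⊔ Ideal.span {x})) (Pc (R ⊔ Ideal.span {x}) M k) := hQ k
    refine (pc_mk_eq_zero ⟨y, Pw_le_sup k hy⟩).mp (eq_zero_of_flat (Q := R ⊔ Ideal.span {x}) _ fun p hp => ?_)
    obtain ⟨s, hs, hsy⟩ := hloc p hp (k + 1) j y hxy
    refine ⟨s, hs, ?_⟩
    rw [← Submodule.Quotient.mk_smul, pc_mk_eq_zero]
    exact Pw_le_sup _ hsy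
  have hjacR : ∀ r ∈ [x], r ∈ (⊥ : Ideal A).jacobson := fun r hr => by rwa [List.mem_singleton.mp hr]
  intro k
  induction k using Nat.strong_induction_on with
  | _ k ih =>
  have hreg' : ∀ i < k, IsSMulRegular (Pc R M i) x := fun i hi =>
    (isWeaklyRegular_singleton_iff _ x).mp
      ((piece_iff R [x] hjacR hreg (Pc R M i)).mp (ih i hi)).2
  have hM : RegMod R x M k := regMod_of_pieces hreg'
  have hiota : Function.Injective (iota R x M k) := iota_injective hM
  -- regularity of `x` on the piece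
  have hxk : IsSMulRegular (Pc R M k) x := by
    rw [isSMulRegular_iff_right_eq_zero_of_smul]
    intro z hz
    obtain ⟨y, rfl⟩ := Submodule.Quotient.mk_surjective _ z
    rw [← Submodule.Quotient.mk_smul, pc_mk_eq_zero] at hz
    have key : ∀ n, ∃ q ∈ Pw R M k, (y : M) - x ^ n • q ∈ Pw R M (k + 1) := by
      intro n
      induction n with
      | zero => exact ⟨y, y.2, by simp⟩
      | succ n ihn =>
        obtain ⟨q, hq, hd⟩ := ihn
        have h1 : x ^ (n + 1) • q ∈ Pw R M (k + 1) := by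
          have : x • (y : M) - x • ((y : M) - x ^ n • q) = x ^ (n + 1) • q := by
            rw [smul_sub, sub_sub_cancel, smul_smul, ← pow_succ']
          rw [← this]
          exact sub_mem hz (Submodule.smul_mem _ _ hd)
        obtain ⟨r, hr, q', -, he⟩ := mem_Pw_sup_succ.mp (hA k (n + 1) q hq h1)
        refine ⟨q', hM q' ?_, ?_⟩
        · rw [show x • q' = q - r from by rw [he]; abel]
          exact sub_mem hq (Pw_anti k.le_succ hr)
        · have : (y : M) - x ^ (n + 1) • q' = ((y : M) - x ^ n • q) + x ^ n • r := by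
            rw [he, smul_add, pow_succ, mul_smul]; abel
          rw [this]
          exact add_mem hd (Submodule.smul_mem _ _ hr)
    refine LocalCrit.eq_zero_of_forall_mem_smul (Ideal.span {x})
      ((Ideal.span_singleton_le_iff_mem _).mpr hx) fun n => ?_
    obtain ⟨q, hq, hd⟩ := key n
    have : (Submodule.Quotient.mk y : Pc R M k) = x ^ n • Submodule.Quotient.mk ⟨q, hq⟩ := by
      rw [← Submodule.Quotient.mk_smul, Submodule.Quotient.eq, mem_smul_top_iff_val]
      exact hd
    rw [this, Ideal.span_singleton_pow]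
    exact Submodule.smul_mem_smul (Ideal.mem_span_singleton_self _) Submodule.mem_top
  -- flatness modulo `x`
  have hflat : Module.Flat (A ⧸ (R ⊔ Ideal.span {x})) (TPc R x M k) := by
    match k, hM with
    | 0, _ =>
      haveI : Module.Flat (A ⧸ (R ⊔ Ideal.span {x})) (Pc (R ⊔ Ideal.span {x}) M 0) := hQ 0
      exact flat_of_linearEquiv' (LinearEquiv.ofBijective (iota R x M 0) iota_zero_bijective)
    | m + 1, hM =>
      haveI : Module.Flat (A ⧸ (R ⊔ Ideal.span {x})) (Pc (R ⊔ Ideal.span {x}) M (m + 1)) := hQ _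
      haveI : Module.Flat (A ⧸ (R ⊔ Ideal.span {x}))
          (TPc R x M (m + 1) × Pc (R ⊔ Ideal.span {x}) M m) :=
        flat_of_linearEquiv' (LinearEquiv.ofBijective (sigma R x M m) (sigma_bijective hM))
      exact Module.Flat.of_retract (LinearMap.inl (A ⧸ (R ⊔ Ideal.span {x})) _ _)
        (LinearMap.fst (A ⧸ (R ⊔ Ideal.span {x})) _ (Pc (R ⊔ Ideal.span {x}) M m))
        (LinearMap.fst_comp_inl _ _ _)
  refine (piece_iff R [x] hjacR hreg (Pc R M k)).mpr ⟨?_, (isWeaklyRegular_singleton_iff _ x).mpr hxk⟩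
  rw [Ideal.ofList_singleton]
  exact hflat

theorem nf_descend : ∀ (rs : List A) (R : Ideal A),
    (∀ r ∈ rs, r ∈ (⊥ : Ideal A).jacobson) → IsWeaklyRegular (A ⧸ R) rs →
    (∀ (p : Ideal A) [p.IsPrime], p ∈ associatedPrimes A (A ⧸ (R ⊔ Ideal.ofList rs)) →
      RegPieces R rs (LocalizedModule p.primeCompl M)) →
    EGA4.IsNormallyFlat (R ⊔ Ideal.ofList rs) M → EGA4.IsNormallyFlat R M := by
  intro rs
  induction rs with
  | nil => intro R _ _ _ h; rwa [Ideal.ofList_nil, sup_bot_eq] at h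
  | cons x rs ih =>
    intro R hjac hreg hloc h
    rw [isWeaklyRegular_cons_sup_iff] at hreg
    rw [Ideal.ofList_cons, ← sup_assoc] at h hloc
    have hjac' : ∀ r ∈ rs, r ∈ (⊥ : Ideal A).jacobson :=
      fun r hr => hjac r (List.mem_cons_of_mem _ hr)
    refine nf_descend_step (hjac x (List.mem_cons_self ..)) hreg.1
      (ih _ hjac' hreg.2 (fun p _ hp => regPieces_step (hloc p hp)) h) ?_
    intro p hp m j q hq
    obtain ⟨p', hp', hle⟩ := exists_ass_ofList rs _ hjac' hreg.2 p hp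
    haveI : p'.IsPrime := hp'.isPrime
    obtain ⟨w, hw, hwq⟩ := exists_smul_mem_of_regPieces p'.primeCompl
      (LocalizedModule.mkLinearMap p'.primeCompl M) (hloc p' hp') m j hq
    exact ⟨w, fun hwp => hw (hle hwp), hwq⟩

end Ass

end Groth.Agent.NFlat6
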