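import Groth.Agent.NFlat6.Pieces
import Groth.Prelude.Def_EGA4b
import Mathlib.LinearAlgebra.TensorProduct.Prod

/-!
# Normal flatness along a larger ideal, and along a smaller one
-/

universe u

open TensorProduct RingTheory.Sequence Pointwise

namespace Groth.Agent.NFlat6

variable {A : Type u} [CommRing A] {R : Ideal A} {x : A} {M : Type u} [AddCommGroup M] [Module A M]

theorem flat_of_linearEquiv' {Q : Ideal A} {X Y : Type u} [AddCommGroup X] [Module A X]
    [Module (A ⧸ Q) X] [IsScalarTower A (A ⧸ Q) X] [AddCommGroup Y] [Module A Y]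
    [Module (A ⧸ Q) Y] [IsScalarTower A (A ⧸ Q) Y] (e : X ≃ₗ[A] Y) [Module.Flat (A ⧸ Q) Y] :
    Module.Flat (A ⧸ Q) X :=
  Module.Flat.of_linearEquiv (e.extendScalarsOfSurjective Ideal.Quotient.mk_surjective)

theorem flat_prod {S X Y : Type u} [CommRing S] [AddCommGroup X] [Module S X] [AddCommGroup Y]
    [Module S Y] [Module.Flat S X] [Module.Flat S Y] : Module.Flat S (X × Y) := by
  rw [Module.Flat.iff_lTensor_preserves_injective_linearMap]
  intro N N' _ _ _ _ g hg
  have h1 := Module.Flat.lTensor_preserves_injective_linearMap (M := X) g hg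
  have h2 := Module.Flat.lTensor_preserves_injective_linearMap (M := Y) g hg
  have key : (TensorProduct.prodLeft S S X Y N').toLinearMap ∘ₗ g.lTensor (X × Y) =
      (g.lTensor X).prodMap (g.lTensor Y) ∘ₗ (TensorProduct.prodLeft S S X Y N).toLinearMap := by
    refine TensorProduct.ext' fun p n => ?_
    obtain ⟨p₁, p₂⟩ := p
    simp
  intro a b hab
  have ha := LinearMap.congr_fun key a
  have hb := LinearMap.congr_fun key b
  simp only [LinearMap.comp_apply, LinearEquiv.coe_coe, hab] at ha hb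
  have := ha.symm.trans hb
  rw [LinearMap.prodMap_apply, LinearMap.prodMap_apply, Prod.mk.injEq] at this
  exact (TensorProduct.prodLeft S S X Y N).injective (Prod.ext (h1 this.1) (h2 this.2))

/-! ### Regular sequences and products -/

theorem quotSMulTopProd_surjective {X Y : Type u} [AddCommGroup X] [Module A X] [AddCommGroup Y]
    [Module A Y] (x : A) :
    Nonempty (QuotSMulTop x (X × Y) ≃ₗ[A] QuotSMulTop x X × QuotSMulTop x Y) := by
  let φ : (X × Y) →ₗ[A] QuotSMulTop x X × QuotSMulTop x Y :=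
    (Submodule.mkQ _).prodMap (Submodule.mkQ _)
  have hsurj : Function.Surjective φ := by
    rintro ⟨a, b⟩
    obtain ⟨a, rfl⟩ := Submodule.mkQ_surjective _ a
    obtain ⟨b, rfl⟩ := Submodule.mkQ_surjective _ b
    exact ⟨(a, b), rfl⟩
  have hker : LinearMap.ker φ = x • (⊤ : Submodule A (X × Y)) := by
    ext ⟨a, b⟩
    simp only [φ, LinearMap.mem_ker, LinearMap.prodMap_apply, Prod.mk_eq_zero, Submodule.mkQ_apply,
      Submodule.Quotient.mk_eq_zero, Submodule.mem_smul_pointwise_iff_exists]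
    constructor
    · rintro ⟨⟨a', -, rfl⟩, ⟨b', -, rfl⟩⟩; exact ⟨(a', b'), Submodule.mem_top, rfl⟩
    · rintro ⟨⟨a', b'⟩, -, h⟩
      simp only [Prod.smul_mk, Prod.mk.injEq] at h
      exact ⟨⟨a', Submodule.mem_top, h.1⟩, ⟨b', Submodule.mem_top, h.2⟩⟩
  exact ⟨(Submodule.quotEquivOfEq _ _ hker.symm).trans (φ.quotKerEquivOfSurjective hsurj)⟩

theorem isWeaklyRegular_prod : ∀ (rs : List A) (X Y : Type u) [AddCommGroup X] [Module A X]
    [AddCommGroup Y] [Module A Y], IsWeaklyRegular X rs → IsWeaklyRegular Y rs →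
    IsWeaklyRegular (X × Y) rs := by
  intro rs
  induction rs with
  | nil => intros; exact IsWeaklyRegular.nil A _
  | cons r rs ih =>
    intro X Y _ _ _ _ hX hY
    rw [isWeaklyRegular_cons_iff] at hX hY ⊢
    refine ⟨fun p q h => Prod.ext (hX.1 congr(Prod.fst $h)) (hY.1 congr(Prod.snd $h)), ?_⟩
    obtain ⟨e⟩ := quotSMulTopProd_surjective (X := X) (Y := Y) r
    exact (e.isWeaklyRegular_congr rs).mpr (ih _ _ hX.2 hY.2)

/-! ### One step -/

/-- Every piece along `R` has the sequence as a weakly regular sequence. -/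
def RegPieces (R : Ideal A) (rs : List A) (M : Type u) [AddCommGroup M] [Module A M] : Prop :=
  ∀ i, IsWeaklyRegular (Pc R M i) rs

theorem regPieces_step {rs : List A} (h : RegPieces R (x :: rs) M) :
    RegPieces (R ⊔ Ideal.span {x}) rs M := by
  have hx : ∀ i, IsSMulRegular (Pc R M i) x := fun i =>
    ((isWeaklyRegular_cons_iff _ x rs).mp (h i)).1
  have hT : ∀ i, IsWeaklyRegular (TPc R x M i) rs := fun i =>
    ((tpcEquiv (R := R) (x := x) (M := M) i).isWeaklyRegular_congr rs).mpr
      ((isWeaklyRegular_cons_iff _ x rs).mp (h i)).2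
  intro m
  induction m with
  | zero =>
    exact ((LinearEquiv.ofBijective (iota R x M 0) iota_zero_bijective).isWeaklyRegular_congr rs).mp
      (hT 0)
  | succ m ih =>
    exact ((LinearEquiv.ofBijective (sigma R x M m)
      (sigma_bijective (regMod_of_pieces fun i _ => hx i))).isWeaklyRegular_congr rs).mp
      (isWeaklyRegular_prod rs _ _ (hT (m + 1)) ih)

theorem nf_step [IsNoetherianRing A] [Module.Finite A M] (hx : x ∈ (⊥ : Ideal A).jacobson)
    (hreg : IsWeaklyRegular (A ⧸ R) [x]) (h : EGA4.IsNormallyFlat R M) :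
    EGA4.IsNormallyFlat (R ⊔ Ideal.span {x}) M := by
  have hp : ∀ i, Module.Flat (A ⧸ (R ⊔ Ideal.span {x})) (TPc R x M i) ∧
      IsWeaklyRegular (Pc R M i) [x] := by
    intro i
    have := (piece_iff R [x] (fun r hr => by rwa [List.mem_singleton.mp hr]) hreg (Pc R M i)).mp (h i)
    rw [Ideal.ofList_singleton] at this
    exact this
  have hx : ∀ i, IsSMulRegular (Pc R M i) x := fun i =>
    (isWeaklyRegular_singleton_iff _ x).mp (hp i).2
  intro m
  change Module.Flat _ (Pc (R ⊔ Ideal.span {x}) M m)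
  induction m with
  | zero =>
    haveI := (hp 0).1
    exact flat_of_linearEquiv' (LinearEquiv.ofBijective (iota R x M 0) iota_zero_bijective).symm
  | succ m ih =>
    haveI := (hp (m + 1)).1
    haveI := ih
    haveI : Module.Flat (A ⧸ (R ⊔ Ideal.span {x}))
        (TPc R x M (m + 1) × Pc (R ⊔ Ideal.span {x}) M m) := flat_prod
    exact flat_of_linearEquiv' (LinearEquiv.ofBijective (sigma R x M m)
      (sigma_bijective (regMod_of_pieces fun i _ => hx i))).symm

/-- `(A ⧸ R) ⧸ x ≅ A ⧸ (R + x)`. -/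
noncomputable def quotSMulTopQuot (R : Ideal A) (x : A) :
    QuotSMulTop x (A ⧸ R) ≃ₗ[A] A ⧸ (R ⊔ Ideal.span {x}) :=
  (Submodule.quotEquivOfEq _ _ (by
    ext z
    obtain ⟨a, rfl⟩ := Ideal.Quotient.mk_surjective z
    simp only [Submodule.mem_map, Submodule.mem_smul_pointwise_iff_exists, Ideal.mem_span_singleton']
    constructor
    · rintro ⟨w, -, hw⟩
      obtain ⟨b, rfl⟩ := Ideal.Quotient.mk_surjective w
      exact ⟨b * x, ⟨b, rfl⟩, by rw [mul_comm]; exact hw⟩
    · rintro ⟨_, ⟨b, rfl⟩, hw⟩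
      exact ⟨Ideal.Quotient.mk R b, Submodule.mem_top, by rw [← hw, mul_comm]; rfl⟩)).trans
    (Submodule.quotientQuotientEquivQuotientSup (R : Submodule A A) (Ideal.span {x}))

theorem isWeaklyRegular_cons_sup_iff (R : Ideal A) (x : A) (rs : List A) :
    IsWeaklyRegular (A ⧸ R) (x :: rs) ↔ IsWeaklyRegular (A ⧸ R) [x] ∧
      IsWeaklyRegular (A ⧸ (R ⊔ Ideal.span {x})) rs := by
  rw [isWeaklyRegular_cons_iff, isWeaklyRegular_singleton_iff,
    (quotSMulTopQuot R x).isWeaklyRegular_congr rs]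

theorem nf_ascent [IsNoetherianRing A] [Module.Finite A M] : ∀ (rs : List A) (R : Ideal A),
    (∀ r ∈ rs, r ∈ (⊥ : Ideal A).jacobson) → IsWeaklyRegular (A ⧸ R) rs →
    EGA4.IsNormallyFlat R M → EGA4.IsNormallyFlat (R ⊔ Ideal.ofList rs) M := by
  intro rs
  induction rs with
  | nil => intro R _ _ h; rwa [Ideal.ofList_nil, sup_bot_eq]
  | cons x rs ih =>
    intro R hjac hreg h
    rw [isWeaklyRegular_cons_sup_iff] at hreg
    rw [Ideal.ofList_cons, ← sup_assoc]
    exact ih _ (fun r hr => hjac r (List.mem_cons_of_mem _ hr)) hreg.2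
      (nf_step (hjac x (List.mem_cons_self ..)) hreg.1 h)

end Groth.Agent.NFlat6
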