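import Groth.Agent.NFlat6.Hironaka
import Groth.Agent.Alg6.AssDepth
import Mathlib.RingTheory.Flat.Localization

/-!
# The graded pieces along `R` and along `R + (x)`

For `x` regular on `M ⧸ R ^ (m + 1) M` and `Q = R + (x)` one has
`Q^(m+1) M ⧸ Q^(m+2) M ≅ (N_(m+1) ⧸ x N_(m+1)) × (Q^m M ⧸ Q^(m+1) M)` with
`N_i = R^i M ⧸ R^(i+1) M`.
-/

universe u

open TensorProduct RingTheory.Sequence Pointwise

namespace Groth.Agent.NFlat6

variable {A : Type u} [CommRing A] (R : Ideal A) (x : A) (M : Type u) [AddCommGroup M] [Module A M]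

/-- `R ^ i M`. -/
abbrev Pw (i : ℕ) : Submodule A M := R ^ i • ⊤

/-- The piece `R ^ i M ⧸ R ^ (i + 1) M`. -/
abbrev Pc (i : ℕ) : Type u := ↥(Pw R M i) ⧸ (R • ⊤ : Submodule A ↥(Pw R M i))

/-- The piece along `R` modulo `x`. -/
abbrev TPc (i : ℕ) : Type u := Pc R M i ⧸ ((R ⊔ Ideal.span {x}) • ⊤ : Submodule A (Pc R M i))

variable {R x M}

theorem Pw_zero : Pw R M 0 = ⊤ := by simp [Pw]

theorem Pw_succ (i : ℕ) : Pw R M (i + 1) = R • Pw R M i := by
  rw [Pw, Pw, pow_succ', ← Ideal.smul_eq_mul, Submodule.smul_assoc]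

theorem Pw_anti {i j : ℕ} (h : i ≤ j) : Pw R M j ≤ Pw R M i :=
  Submodule.smul_mono_left (Ideal.pow_le_pow_right h)

theorem Pw_le_sup (i : ℕ) : Pw R M i ≤ Pw (R ⊔ Ideal.span {x}) M i :=
  Submodule.smul_mono_left (Ideal.pow_right_mono le_sup_left i)

theorem mem_smul_top_iff_val {i : ℕ} (y : ↥(Pw R M i)) :
    y ∈ (R • ⊤ : Submodule A ↥(Pw R M i)) ↔ (y : M) ∈ Pw R M (i + 1) := by
  have h : Submodule.map (Pw R M i).subtype (R • ⊤) = Pw R M (i + 1) := by
    rw [Submodule.map_smul'', Submodule.map_top, Submodule.range_subtype, Pw_succ]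
  rw [← h]
  exact (Function.Injective.mem_set_image (Subtype.val_injective (p := (· ∈ Pw R M i)))).symm

theorem pc_mk_eq_zero {i : ℕ} (y : ↥(Pw R M i)) :
    (Submodule.Quotient.mk y : Pc R M i) = 0 ↔ (y : M) ∈ Pw R M (i + 1) := by
  rw [Submodule.Quotient.mk_eq_zero, mem_smul_top_iff_val]

theorem pc_smul_eq_zero {i : ℕ} {a : A} (ha : a ∈ R) (z : Pc R M i) : a • z = 0 := by
  obtain ⟨z, rfl⟩ := Submodule.Quotient.mk_surjective _ z
  rw [← Submodule.Quotient.mk_smul, Submodule.Quotient.mk_eq_zero]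
  exact Submodule.smul_mem_smul ha Submodule.mem_top

theorem smul_mem_Pw_succ {m : ℕ} {y : M} (hy : y ∈ Pw R M m) {a : A} (ha : a ∈ R) :
    a • y ∈ Pw R M (m + 1) := by
  rw [Pw_succ]; exact Submodule.smul_mem_smul ha hy

theorem mem_sup_span_smul {N : Submodule A M} {z : M} :
    z ∈ (R ⊔ Ideal.span {x}) • N ↔ ∃ r ∈ R • N, ∃ q ∈ N, z = r + x • q := by
  rw [Submodule.sup_smul, Submodule.mem_sup]
  simp only [Submodule.ideal_span_singleton_smul, Submodule.mem_smul_pointwise_iff_exists]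
  constructor
  · rintro ⟨r, hr, _, ⟨q, hq, rfl⟩, rfl⟩; exact ⟨r, hr, q, hq, rfl⟩
  · rintro ⟨r, hr, q, hq, rfl⟩; exact ⟨r, hr, _, ⟨q, hq, rfl⟩, rfl⟩

theorem mem_Pw_sup_succ {m : ℕ} {z : M} :
    z ∈ Pw (R ⊔ Ideal.span {x}) M (m + 1) ↔
      ∃ r ∈ Pw R M (m + 1), ∃ q ∈ Pw (R ⊔ Ideal.span {x}) M m, z = r + x • q := by
  induction m generalizing z with
  | zero =>
    rw [Pw_succ, Pw_succ, Pw_zero, Pw_zero, mem_sup_span_smul]
  | succ m ih =>
    constructor
    · intro hz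
      rw [Pw_succ, mem_sup_span_smul] at hz
      obtain ⟨r, hr, q, hq, rfl⟩ := hz
      suffices H : ∀ r ∈ R • Pw (R ⊔ Ideal.span {x}) M (m + 1),
          ∃ r' ∈ Pw R M (m + 1 + 1), ∃ q' ∈ Pw (R ⊔ Ideal.span {x}) M (m + 1), r = r' + x • q' by
        obtain ⟨r', hr', q', hq', rfl⟩ := H r hr
        exact ⟨r', hr', q' + q, add_mem hq' hq, by rw [smul_add, add_assoc]⟩
      intro r hr
      refine Submodule.smul_induction_on hr (fun a ha y hy => ?_) ?_
      · obtain ⟨r', hr', q', hq', rfl⟩ := ih.mp hy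
        refine ⟨a • r', smul_mem_Pw_succ hr' ha, a • q',
          smul_mem_Pw_succ hq' (Submodule.mem_sup_left ha), ?_⟩
        rw [smul_add, smul_comm a x q']
      · intro y z hy hz
        obtain ⟨r₁, h₁, q₁, g₁, rfl⟩ := hy
        obtain ⟨r₂, h₂, q₂, g₂, rfl⟩ := hz
        exact ⟨r₁ + r₂, add_mem h₁ h₂, q₁ + q₂, add_mem g₁ g₂, by rw [smul_add]; abel⟩
    · rintro ⟨r, hr, q, hq, rfl⟩
      exact add_mem (Pw_le_sup _ hr)
        (smul_mem_Pw_succ hq (Submodule.mem_sup_right (Ideal.mem_span_singleton_self x)))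

/-- `x` is regular on `M ⧸ R ^ m M`. -/
def RegMod (R : Ideal A) (x : A) (M : Type u) [AddCommGroup M] [Module A M] (m : ℕ) : Prop :=
  ∀ q : M, x • q ∈ Pw R M m → q ∈ Pw R M m

theorem regMod_of_pieces {m : ℕ} (h : ∀ i < m, IsSMulRegular (Pc R M i) x) : RegMod R x M m := by
  induction m with
  | zero => intro q _; simp [Pw_zero]
  | succ m ih =>
    intro q hq
    have hm : q ∈ Pw R M m := ih (fun i hi => h i (Nat.lt_succ_of_lt hi)) q (Pw_anti m.le_succ hq)
    refine (pc_mk_eq_zero ⟨q, hm⟩).mp ((h m m.lt_succ_self).right_eq_zero_of_smul ?_)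
    rw [← Submodule.Quotient.mk_smul, pc_mk_eq_zero]
    exact hq

variable (R x M)

/-- The natural map `N_m ⧸ x N_m → Q^m M ⧸ Q^(m+1) M`. -/
noncomputable def iota (m : ℕ) : TPc R x M m →ₗ[A] Pc (R ⊔ Ideal.span {x}) M m :=
  Submodule.liftQ _
    (Submodule.mapQ _ _ (Submodule.inclusion (Pw_le_sup m)) (fun y hy => by
      rw [Submodule.mem_comap, mem_smul_top_iff_val]
      exact Pw_le_sup _ ((mem_smul_top_iff_val y).mp hy)))
    (by
      rw [Submodule.smul_le]
      intro a ha z _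
      rw [LinearMap.mem_ker, map_smul]
      exact pc_smul_eq_zero ha _)

/-- Multiplication by `x` between consecutive pieces along `Q`. -/
noncomputable def mulX (m : ℕ) :
    Pc (R ⊔ Ideal.span {x}) M m →ₗ[A] Pc (R ⊔ Ideal.span {x}) M (m + 1) :=
  Submodule.mapQ _ _
    (LinearMap.codRestrict (Pw (R ⊔ Ideal.span {x}) M (m + 1))
      (x • (Pw (R ⊔ Ideal.span {x}) M m).subtype)
      (fun y => smul_mem_Pw_succ y.2 (Submodule.mem_sup_right (Ideal.mem_span_singleton_self x))))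
    (fun y hy => by
      rw [Submodule.mem_comap, mem_smul_top_iff_val]
      exact smul_mem_Pw_succ ((mem_smul_top_iff_val y).mp hy)
        (Submodule.mem_sup_right (Ideal.mem_span_singleton_self x)))

variable {R x M}

theorem iota_mk {m : ℕ} (y : ↥(Pw R M m)) :
    iota R x M m (Submodule.Quotient.mk (Submodule.Quotient.mk y)) =
      Submodule.Quotient.mk ⟨(y : M), Pw_le_sup m y.2⟩ := rfl

theorem mulX_mk {m : ℕ} (y : ↥(Pw (R ⊔ Ideal.span {x}) M m)) :
    mulX R x M m (Submodule.Quotient.mk y) = Submodule.Quotient.mk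
      ⟨x • (y : M), smul_mem_Pw_succ y.2 (Submodule.mem_sup_right (Ideal.mem_span_singleton_self x))⟩ :=
  rfl

theorem tpc_mk_eq_zero {m : ℕ} (y : ↥(Pw R M m)) {r s : M} (hr : r ∈ Pw R M (m + 1))
    (hs : s ∈ Pw R M m) (h : (y : M) = r + x • s) :
    (Submodule.Quotient.mk (Submodule.Quotient.mk y) : TPc R x M m) = 0 := by
  rw [Submodule.Quotient.mk_eq_zero]
  have h1 : (Submodule.Quotient.mk y : Pc R M m) = x • Submodule.Quotient.mk ⟨s, hs⟩ := by
    rw [← Submodule.Quotient.mk_smul, Submodule.Quotient.eq, mem_smul_top_iff_val]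
    simpa [h] using hr
  rw [h1]
  exact Submodule.smul_mem_smul (Submodule.mem_sup_right (Ideal.mem_span_singleton_self x))
    Submodule.mem_top

theorem iota_injective {m : ℕ} (h : RegMod R x M m) : Function.Injective (iota R x M m) := by
  rw [injective_iff_map_eq_zero]
  intro z hz
  obtain ⟨z, rfl⟩ := Submodule.Quotient.mk_surjective _ z
  obtain ⟨z, rfl⟩ := Submodule.Quotient.mk_surjective _ z
  rw [iota_mk, pc_mk_eq_zero, mem_Pw_sup_succ] at hz
  obtain ⟨r, hr, q, -, he⟩ := hz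
  refine tpc_mk_eq_zero z hr (h q ?_) he
  rw [show x • q = (z : M) - r from by rw [show (z : M) = r + x • q from he]; abel]
  exact sub_mem z.2 (Pw_anti m.le_succ hr)

theorem iota_zero_bijective : Function.Bijective (iota R x M 0) := by
  refine ⟨iota_injective fun q _ => by simp [Pw_zero], fun z => ?_⟩
  obtain ⟨⟨z, hz⟩, rfl⟩ := Submodule.Quotient.mk_surjective _ z
  exact ⟨Submodule.Quotient.mk (Submodule.Quotient.mk ⟨z, by simp [Pw_zero]⟩), rfl⟩

variable (R x M)

/-- The decomposition map. -/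
noncomputable def sigma (m : ℕ) :
    (TPc R x M (m + 1) × Pc (R ⊔ Ideal.span {x}) M m) →ₗ[A] Pc (R ⊔ Ideal.span {x}) M (m + 1) :=
  (iota R x M (m + 1)).coprod (mulX R x M m)

variable {R x M}

theorem sigma_bijective {m : ℕ} (h : RegMod R x M (m + 1)) :
    Function.Bijective (sigma R x M m) := by
  constructor
  · rw [injective_iff_map_eq_zero]
    rintro ⟨z, q⟩ hzq
    obtain ⟨z, rfl⟩ := Submodule.Quotient.mk_surjective _ z
    obtain ⟨z, rfl⟩ := Submodule.Quotient.mk_surjective _ z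
    obtain ⟨q, rfl⟩ := Submodule.Quotient.mk_surjective _ q
    simp only [sigma, LinearMap.coprod_apply] at hzq
    rw [iota_mk, mulX_mk, ← Submodule.Quotient.mk_add, pc_mk_eq_zero, mem_Pw_sup_succ] at hzq
    obtain ⟨r, hr, q', hq', he⟩ := hzq
    have he' : (z : M) + x • (q : M) = r + x • q' := he
    have hu : (q : M) - q' ∈ Pw R M (m + 1) := h _ (by
      rw [smul_sub, show x • (q : M) - x • q' = r - z from by
        rw [show x • (q : M) = r + x • q' - z from by rw [← he']; abel]; abel]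
      exact sub_mem (Pw_anti (Nat.le_succ _) hr) z.2)
    refine Prod.ext ?_ ?_
    · refine tpc_mk_eq_zero z hr (neg_mem hu) ?_
      rw [smul_neg, smul_sub]
      rw [show (z : M) = r + x • q' - x • (q : M) from by rw [← he']; abel]
      abel
    · rw [Prod.snd_zero, pc_mk_eq_zero]
      simpa using add_mem (Pw_le_sup _ hu) hq'
  · intro z
    obtain ⟨⟨z, hz⟩, rfl⟩ := Submodule.Quotient.mk_surjective _ z
    obtain ⟨r, hr, q, hq, rfl⟩ := mem_Pw_sup_succ.mp hz
    refine ⟨(Submodule.Quotient.mk (Submodule.Quotient.mk ⟨r, hr⟩), Submodule.Quotient.mk ⟨q, hq⟩), ?_⟩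
    simp only [sigma, LinearMap.coprod_apply]
    rw [iota_mk, mulX_mk, ← Submodule.Quotient.mk_add]
    rfl

/-- `N ⧸ x N` for a module killed by `R`. -/
noncomputable def tpcEquiv (i : ℕ) : TPc R x M i ≃ₗ[A] QuotSMulTop x (Pc R M i) :=
  Submodule.quotEquivOfEq _ _ (by
    have hR : (R • ⊤ : Submodule A (Pc R M i)) = ⊥ :=
      eq_bot_iff.mpr (Submodule.smul_le.mpr fun a ha z _ =>
        (Submodule.mem_bot A).mpr (pc_smul_eq_zero ha z))
    rw [Submodule.sup_smul, hR, bot_sup_eq, Submodule.ideal_span_singleton_smul])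

end Groth.Agent.NFlat6
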